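import Groth.Agent.NormNormal.Basic

/-!
The relative normalization of a normal scheme with locally finitely many components.
-/

set_option autoImplicit false
set_option backward.isDefEq.respectTransparency.types false

universe u

open CategoryTheory AlgebraicGeometry TopologicalSpace

namespace Groth.Agent.NormNormal

variable {X Y : Scheme.{u}} (f : Y ⟶ X) [QuasiCompact f] [QuasiSeparated f]

/-- Over an affine open the sections of the relative normalization are integrally closed in the
sections of the source. -/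
theorem isIntegrallyClosedIn_sections {U : X.Opens} (hU : IsAffineOpen U)
    (hle : f ⁻¹ᵁ U ≤ f.toNormalization ⁻¹ᵁ f.fromNormalization ⁻¹ᵁ U) :
    letI := (f.toNormalization.appLE (f.fromNormalization ⁻¹ᵁ U) (f ⁻¹ᵁ U) hle).hom.toAlgebra
    IsIntegrallyClosedIn Γ(f.normalization, f.fromNormalization ⁻¹ᵁ U) Γ(Y, f ⁻¹ᵁ U) := by
  letI := (f.app U).hom.toAlgebra
  letI := (f.toNormalization.appLE (f.fromNormalization ⁻¹ᵁ U) (f ⁻¹ᵁ U) hle).hom.toAlgebra
  let i := (f.normalizationObjIso hU).commRingCatIsoToRingEquiv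
  have hi : ∀ r, f.toNormalization.appLE _ _ hle r = (i r).1 := fun r =>
    (congr($(f.normalizationObjIso_hom_val hU).hom r)).symm
  refine isIntegrallyClosedIn_iff.mpr ⟨fun a b h => i.injective (Subtype.ext ?_), fun {x} hx => ?_⟩
  · rw [← hi, ← hi]; exact h
  · obtain ⟨P, hP, hP0⟩ := hx
    have hx' : IsIntegral (integralClosure Γ(X, U) Γ(Y, f ⁻¹ᵁ U)) x := by
      refine ⟨P.map i.toRingHom, hP.map _, ?_⟩
      rw [Polynomial.eval₂_map]
      convert hP0 using 2
      exact RingHom.ext fun r => (hi r).symm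
    have hxA : x ∈ integralClosure Γ(X, U) Γ(Y, f ⁻¹ᵁ U) :=
      isIntegral_trans (R := Γ(X, U)) x hx'
    refine ⟨i.symm ⟨x, hxA⟩, ?_⟩
    change f.toNormalization.appLE _ _ hle (i.symm ⟨x, hxA⟩) = x
    rw [hi, RingEquiv.apply_symm_apply]

variable (hY : Pi1.IsNormalScheme Y)
  (hfin : LocallyFinite (fun Z : ↥(irreducibleComponents Y) => (Z : Set Y)))
include hY hfin

/-- Distinct generic points of `Y` have images in the normalization not related by
specialization, and the stalks at specializations of such an image are normal domains. -/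
theorem normal_and_eq {η : Y} (hη : closure {η} ∈ irreducibleComponents Y) (x' : f.normalization)
    (hx' : f.toNormalization η ⤳ x') :
    (IsDomain (f.normalization.presheaf.stalk x') ∧
      IsIntegrallyClosed (f.normalization.presheaf.stalk x')) ∧
    ∀ η' : Y, closure {η'} ∈ irreducibleComponents Y → f.toNormalization η' ⤳ x' → η' = η := by
  obtain ⟨U, hU, hxU, -⟩ := exists_isAffineOpen_mem_and_subset
    (x := f.fromNormalization x') (U := ⊤) trivial
  have hW : IsAffineOpen (f.fromNormalization ⁻¹ᵁ U) := hU.preimage _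
  have hle : f ⁻¹ᵁ U ≤ f.toNormalization ⁻¹ᵁ f.fromNormalization ⁻¹ᵁ U := by
    rw [← Scheme.Hom.comp_preimage, f.toNormalization_fromNormalization]
  have hmem : ∀ z : Y, f.toNormalization z ⤳ x' → z ∈ f ⁻¹ᵁ U := fun z hz => by
    change f z ∈ U
    rw [← f.toNormalization_fromNormalization, Scheme.Hom.comp_apply]
    exact (hz.mem_open (f.fromNormalization ⁻¹ᵁ U).2 hxU :)
  letI := (f.toNormalization.appLE (f.fromNormalization ⁻¹ᵁ U) (f ⁻¹ᵁ U) hle).hom.toAlgebra
  haveI := isIntegrallyClosedIn_sections f hU hle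
  obtain ⟨D, _, _, _, ρ, e, he, hρe, hker, hsurj, heη, heη'⟩ :=
    exists_idem hY hfin (f.isCompact_preimage hU.isCompact) hη (hmem η hx')
  obtain ⟨r, hr⟩ : ∃ r, algebraMap Γ(f.normalization, f.fromNormalization ⁻¹ᵁ U) Γ(Y, f ⁻¹ᵁ U) r = e := by
    refine IsIntegrallyClosedIn.isIntegral_iff.mp ⟨Polynomial.X ^ 2 - Polynomial.X, ?_, ?_⟩
    · exact Polynomial.monic_X_pow_sub (Polynomial.degree_X_le.trans_lt (by norm_num))
    · simp [pow_two, he.eq]
  have hinj := IsIntegralClosure.algebraMap_injective Γ(f.normalization, f.fromNormalization ⁻¹ᵁ U)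
    Γ(f.normalization, f.fromNormalization ⁻¹ᵁ U) Γ(Y, f ⁻¹ᵁ U)
  have hri : IsIdempotentElem r := hinj (by rw [map_mul, hr, he.eq])
  have hbo : ∀ z ∈ f ⁻¹ᵁ U, (f.toNormalization z ∈ f.normalization.basicOpen r ↔
      z ∈ Y.basicOpen e) := by
    intro z hz
    rw [← hr, RingHom.algebraMap_toAlgebra, Scheme.basicOpen_appLE]
    exact ⟨fun h => ⟨hz, h⟩, fun h => h.2⟩
  have hηr : f.toNormalization η ∈ f.normalization.basicOpen r := (hbo η (hmem η hx')).mpr heη
  have hxr : x' ∈ f.normalization.basicOpen r := by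
    by_contra h
    rw [f.normalization.mem_basicOpen _ x' hxU] at h
    have h1 : IsUnit (f.normalization.presheaf.germ _ x' hxU (1 - r)) := by
      rw [map_sub, map_one]
      exact (IsLocalRing.isUnit_or_isUnit_one_sub_self _).resolve_left h
    rw [← f.normalization.mem_basicOpen _ x' hxU] at h1
    have h2 := hx'.mem_open (f.normalization.basicOpen (1 - r)).2 h1
    have h3 : f.toNormalization η ∈
        f.normalization.basicOpen r ⊓ f.normalization.basicOpen (1 - r) := ⟨hηr, h2⟩
    rw [← Scheme.basicOpen_mul, mul_sub, mul_one, hri.eq, sub_self, Scheme.basicOpen_zero] at h3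
    exact h3
  refine ⟨?_, fun η' hη' hx'' => ?_⟩
  · letI := f.normalization.presheaf.algebra_section_stalk (U := f.fromNormalization ⁻¹ᵁ U) ⟨x', hxU⟩
    haveI := hW.isLocalization_stalk ⟨x', hxU⟩
    have hnot : r ∉ (hW.primeIdealOf ⟨x', hxU⟩).asIdeal := by
      rw [f.normalization.mem_basicOpen _ x' hxU] at hxr
      exact (IsLocalization.AtPrime.isUnit_to_map_iff (f.normalization.presheaf.stalk x')
        (hW.primeIdealOf ⟨x', hxU⟩).asIdeal r).mp hxr
    exact localization_normal ρ r hri (by rw [hr, hρe]) (by rw [hr]; exact hker) hsurj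
      (hW.primeIdealOf ⟨x', hxU⟩).asIdeal hnot _
  · by_contra hne
    exact heη' η' hη' hne ((hbo η' (hmem η' hx'')).mp
      (hx''.mem_open (f.normalization.basicOpen r).2 hxr))

end Groth.Agent.NormNormal
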