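import Mathlib.AlgebraicGeometry.Normalization
import Mathlib.AlgebraicGeometry.FunctionField
import Mathlib.RingTheory.IntegralClosure.IntegrallyClosed
import Mathlib.RingTheory.Localization.LocalizationLocalization
import Mathlib.RingTheory.Polynomial.ScaleRoots
import Groth.Agent.NormalSec.Basic
import Groth.Agent.FlatMor.GenericPts
import Groth.Agent.SchPoints.Basic
import Groth.Prelude.Def_Pi1

/-!
Local structure of a normal scheme with locally finitely many irreducible components, and of
the integral closure of a ring inside its sections: localisations are normal domains.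
-/

set_option autoImplicit false
set_option backward.isDefEq.respectTransparency.types false

universe u

open CategoryTheory AlgebraicGeometry TopologicalSpace

namespace Groth.Agent.NormNormal

/-- If `R` is integrally closed in `B` and `e` is an idempotent of `R` cutting out a normal domain
`D` of `B`, then the localisations of `R` at primes avoiding `e` are normal domains. -/
theorem localization_normal {R B D : Type u} [CommRing R] [CommRing B] [CommRing D] [IsDomain D]
    [IsIntegrallyClosed D] [Algebra R B] [IsIntegrallyClosedIn R B] (ρ : B →+* D) (e : R)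
    (he : IsIdempotentElem e) (hρe : ρ (algebraMap R B e) = 1)
    (hker : ∀ b, ρ b = 0 → algebraMap R B e * b = 0) (hsurj : Function.Surjective ρ)
    (p : Ideal R) [p.IsPrime] (hep : e ∉ p) (L : Type u) [CommRing L] [Algebra R L]
    [IsLocalization.AtPrime L p] :
    IsDomain L ∧ IsIntegrallyClosed L := by
  let φ : R →+* D := ρ.comp (algebraMap R B)
  let S : Subring D := φ.range
  let g : R →+* S := φ.rangeRestrict
  letI := g.toAlgebra
  have hgs : Function.Surjective g := φ.rangeRestrict_surjective
  have hinj : Function.Injective (algebraMap R B) := IsIntegralClosure.algebraMap_injective R R B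
  have hg : ∀ a b, algebraMap R S a = algebraMap R S b ↔ e * a = e * b := by
    intro a b
    rw [RingHom.algebraMap_toAlgebra, Subtype.ext_iff]
    change φ a = φ b ↔ _
    constructor
    · intro h
      refine hinj (sub_eq_zero.mp ?_)
      rw [map_mul, map_mul, ← mul_sub]
      refine hker _ ?_
      rw [map_sub]
      exact sub_eq_zero.mpr h
    · intro h
      have := congrArg φ h
      simpa [φ, hρe] using this
  haveI : IsLocalization.Away e S := IsLocalization.away_of_isIdempotentElem_of_mul he hg hgs
  haveI : IsIntegrallyClosed S := by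
    have : IsIntegrallyClosedIn S D := by
      refine Subring.isIntegrallyClosedIn_iff.mpr fun d hd => ?_
      obtain ⟨P, hP, hP0⟩ := hd
      have hlift : P ∈ Polynomial.lifts g :=
        (Polynomial.lifts_iff_coeff_lifts P).mpr fun n => hgs _
      obtain ⟨Q, hQP, -, hQ⟩ := Polynomial.lifts_and_degree_eq_and_monic hlift hP
      obtain ⟨b, rfl⟩ := hsurj d
      have h1 : ρ (Q.eval₂ (algebraMap R B) b) = 0 := by
        rw [Polynomial.hom_eval₂]
        rw [← hQP, Polynomial.eval₂_map] at hP0
        exact hP0
      have hint : IsIntegral R (algebraMap R B e * b) := by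
        rcases Nat.eq_zero_or_pos Q.natDegree with h0 | h0
        · rw [hQ.natDegree_eq_zero.mp h0, Polynomial.eval₂_one, map_one] at h1
          exact absurd h1 one_ne_zero
        refine ⟨Q.scaleRoots e, (Polynomial.monic_scaleRoots_iff e).mpr hQ, ?_⟩
        rw [Polynomial.scaleRoots_eval₂_mul]
        obtain ⟨n, hn⟩ := Nat.exists_eq_succ_of_ne_zero h0.ne'
        rw [hn, (he.map (algebraMap R B)).pow_succ_eq]
        exact hker _ h1
      obtain ⟨r, hr⟩ := IsIntegrallyClosedIn.isIntegral_iff.mp hint
      refine ⟨r, ?_⟩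
      change ρ (algebraMap R B r) = ρ b
      rw [hr, map_mul, hρe, one_mul]
    have : FaithfulSMul S D :=
      (faithfulSMul_iff_algebraMap_injective S D).mpr Subtype.val_injective
    exact IsIntegrallyClosed.of_isIntegrallyClosed_of_isIntegrallyClosedIn S D
  have hdisj : Disjoint (Submonoid.powers e : Set R) (p : Set R) :=
    (Ideal.disjoint_powers_iff_notMem e (Ideal.IsPrime.isRadical ‹_›)).mpr hep
  let q : Ideal S := p.map (algebraMap R S)
  have hq : q.IsPrime := IsLocalization.isPrime_of_isPrime_disjoint (Submonoid.powers e) S p ‹_› hdisj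
  have hqp : q.comap (algebraMap R S) = p :=
    IsLocalization.comap_map_of_isPrime_disjoint (Submonoid.powers e) S ‹_› hdisj
  let T := Localization.AtPrime q
  haveI : IsLocalization.AtPrime T p := by
    have := IsLocalization.isLocalization_isLocalization_atPrime_isLocalization
      (Submonoid.powers e) (R := R) T q
    simpa only [hqp] using this
  have eT : T ≃+* L := (IsLocalization.algEquiv p.primeCompl T L).toRingEquiv
  have hT : IsIntegrallyClosed T :=
    isIntegrallyClosed_of_isLocalization (R := S) (S := T) q.primeCompl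
      q.primeCompl_le_nonZeroDivisors
  exact ⟨eT.symm.toMulEquiv.isDomain T, IsIntegrallyClosed.of_equiv eT⟩

variable {Y : Scheme.{u}}

/-- On a scheme with domain stalks a point has a unique generic generalization. -/
theorem generic_unique {η η' z : Y} [IsDomain (Y.presheaf.stalk z)]
    (hη : closure {η} ∈ irreducibleComponents Y) (hη' : closure {η'} ∈ irreducibleComponents Y)
    (h : η ⤳ z) (h' : η' ⤳ z) : η = η' := by
  have hp : (nilradical (Y.presheaf.stalk z)).IsPrime := by
    rw [nilradical_eq_zero]; exact Ideal.isPrime_bot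
  have := (SchPoints.isPrime_nilradical_stalk_iff z).mp hp _ hη _ hη'
    (specializes_iff_mem_closure.mp h) (specializes_iff_mem_closure.mp h')
  exact (inseparable_iff_closure_eq.mpr this).eq

/-- The finitely many generic points in a quasi-compact open. -/
theorem finite_generic (hfin : LocallyFinite (fun Z : ↥(irreducibleComponents Y) => (Z : Set Y)))
    {V : Y.Opens} (hV : IsCompact (V : Set Y)) :
    {η : Y | closure {η} ∈ irreducibleComponents Y ∧ η ∈ V}.Finite := by
  have h := (hfin.finite_nonempty_inter_compact hV).image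
    (fun Z : ↥(irreducibleComponents Y) => (Z : Set Y))
  refine Set.Finite.of_finite_image (f := fun η => closure ({η} : Set Y)) (h.subset ?_) ?_
  · rintro _ ⟨η, ⟨hη, hηV⟩, rfl⟩
    exact ⟨⟨_, hη⟩, ⟨η, subset_closure rfl, hηV⟩, rfl⟩
  · intro a _ b _ hab
    exact (inseparable_iff_closure_eq.mpr hab).eq

/-- The piece of `V` through the generic point `η`: sections restricted to it form a normal domain
cut out by an idempotent. -/
theorem exists_idem (hY : Pi1.IsNormalScheme Y)
    (hfin : LocallyFinite (fun Z : ↥(irreducibleComponents Y) => (Z : Set Y)))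
    {V : Y.Opens} (hV : IsCompact (V : Set Y)) {η : Y}
    (hη : closure {η} ∈ irreducibleComponents Y) (hηV : η ∈ V) :
    ∃ (D : Type u) (_ : CommRing D) (_ : IsDomain D) (_ : IsIntegrallyClosed D)
      (ρ : Γ(Y, V) →+* D) (e : Γ(Y, V)), IsIdempotentElem e ∧ ρ e = 1 ∧
        (∀ b, ρ b = 0 → e * b = 0) ∧ Function.Surjective ρ ∧ η ∈ Y.basicOpen e ∧
        ∀ η' : Y, closure {η'} ∈ irreducibleComponents Y → η' ≠ η → η' ∉ Y.basicOpen e := by
  have hsplit : ∀ z ∈ V, ∀ η' : Y, closure {η'} ∈ irreducibleComponents Y → η' ⤳ z → η ≠ η' →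
      ¬ η ⤳ z := fun z _ η' hη' hz hne h =>
    have := (hY z).1
    hne (generic_unique hη hη' h hz)
  let G : Set Y := {η' | closure {η'} ∈ irreducibleComponents Y ∧ η' ∈ V} \ {η}
  have hG : G.Finite := (finite_generic hfin hV).subset Set.sdiff_subset
  let W : Y.Opens := ⟨(V : Set Y) \ ⋃ η' ∈ G, closure {η'},
    V.2.sdiff (hG.isClosed_biUnion fun _ _ => isClosed_closure)⟩
  let W' : Y.Opens := ⟨(V : Set Y) \ closure {η}, V.2.sdiff isClosed_closure⟩
  have hWV : W ≤ V := fun z hz => hz.1
  have hW'V : W' ≤ V := fun z hz => hz.1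
  have hdisj : ∀ z ∈ W, z ∉ W' := by
    intro z hz hz'
    obtain ⟨η', hη', hz''⟩ := FlatMor.GenericPts.exists_generic_specializes z
    rcases eq_or_ne η' η with rfl | hne
    · exact hz'.2 (specializes_iff_mem_closure.mp hz'')
    · exact hz.2 (Set.mem_biUnion ⟨⟨hη', hz''.mem_open V.2 hz.1⟩, hne⟩
        (specializes_iff_mem_closure.mp hz''))
  have hηspec : ∀ z ∈ V, η ⤳ z → z ∈ W := by
    intro z hz h
    refine ⟨hz, ?_⟩
    simp only [Set.mem_iUnion, not_exists]
    rintro η' ⟨⟨hη', -⟩, hne⟩ hz'
    exact hsplit z hz η' hη' (specializes_iff_mem_closure.mpr hz') (Ne.symm hne) h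
  have hcov : ∀ z ∈ V, z ∈ W ∨ z ∈ W' := fun z hz => by
    by_cases h : η ⤳ z
    · exact Or.inl (hηspec z hz h)
    · exact Or.inr ⟨hz, fun h' => h (specializes_iff_mem_closure.mpr h')⟩
  have hηW : η ∈ W := hηspec η hηV specializes_rfl
  have hglue : ∀ (s : Γ(Y, W)) (t : Γ(Y, W')), ∃ b : Γ(Y, V),
      Y.presheaf.map (homOfLE hWV).op b = s ∧ Y.presheaf.map (homOfLE hW'V).op b = t := by
    intro s t
    let U : Bool → Y.Opens := fun i => if i then W else W'
    have hle : ∀ i, U i ≤ V := fun i => by cases i <;> assumption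
    let sec : ∀ i, Γ(Y, U i) := fun i => match i with
      | true => s
      | false => t
    obtain ⟨b, hb, -⟩ := TopCat.Sheaf.existsUnique_gluing' Y.sheaf U V (fun i => homOfLE (hle i))
      (fun z hz => by
        rcases hcov z hz with h | h
        · exact Opens.mem_iSup.mpr ⟨true, h⟩
        · exact Opens.mem_iSup.mpr ⟨false, h⟩) sec (by
      intro i j
      refine TopCat.Presheaf.section_ext Y.sheaf _ _ _ fun z hz => ?_
      cases i <;> cases j <;> first
        | rfl
        | exact absurd hz.1 (fun h => hdisj z hz.2 h)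
        | exact absurd hz.2 (fun h => hdisj z hz.1 h))
    exact ⟨b, hb true, hb false⟩
  obtain ⟨e, he1, he0⟩ := hglue 1 0
  have hext : ∀ a b : Γ(Y, V),
      Y.presheaf.map (homOfLE hWV).op a = Y.presheaf.map (homOfLE hWV).op b →
      Y.presheaf.map (homOfLE hW'V).op a = Y.presheaf.map (homOfLE hW'V).op b → a = b := by
    intro a b h h'
    refine TopCat.Presheaf.section_ext Y.sheaf _ _ _ fun z hz => ?_
    rcases hcov z hz with hz' | hz'
    · exact ((Y.presheaf.germ_res_apply (homOfLE hWV) z hz' a).symm.trans
        (congrArg _ h)).trans (Y.presheaf.germ_res_apply _ z hz' b)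
    · exact ((Y.presheaf.germ_res_apply (homOfLE hW'V) z hz' a).symm.trans
        (congrArg _ h')).trans (Y.presheaf.germ_res_apply _ z hz' b)
  have hred : ∀ z : W.toScheme, _root_.IsReduced (W.toScheme.presheaf.stalk z) := fun z =>
    have := (hY z.1).1
    isReduced_of_injective (W.stalkIso z).hom.hom (ConcreteCategory.bijective_of_isIso _).1
  haveI : IsReduced W.toScheme := isReduced_of_isReduced_stalk _
  haveI : IrreducibleSpace W.toScheme := by
    let η₀ : W.toScheme := ⟨η, hηW⟩
    rw [irreducibleSpace_def, Set.top_eq_univ]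
    have : (Set.univ : Set W.toScheme) = closure {η₀} := by
      refine (Set.eq_univ_of_forall fun z => ?_).symm
      rw [← specializes_iff_mem_closure, ← W.ι.isOpenEmbedding.isInducing.specializes_iff]
      rcases hcov z.1 (hWV z.2) with h | h
      · obtain ⟨η', hη', hz'⟩ := FlatMor.GenericPts.exists_generic_specializes z.1
        rcases eq_or_ne η' η with rfl | hne
        · exact hz'
        · exact absurd (Set.mem_biUnion (s := G) (t := fun w => closure {w}) ⟨⟨hη', hz'.mem_open V.2 (hWV z.2)⟩, hne⟩
            (specializes_iff_mem_closure.mp hz')) z.2.2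
      · exact absurd h (hdisj _ z.2)
    rw [this]
    exact isIrreducible_singleton.closure
  haveI : IsIntegral W.toScheme := isIntegral_of_irreducibleSpace_of_isReduced _
  haveI : Nonempty (⊤ : W.toScheme.Opens) := ⟨⟨(⟨η, hηW⟩ : W.toScheme), trivial⟩⟩
  haveI : IsIntegrallyClosed Γ(W.toScheme, ⊤) :=
    NormalSec.isIntegrallyClosed_sections ⊤
      (fun z _ => have := (hY z.1).1; (W.stalkIso z).commRingCatIsoToRingEquiv.toMulEquiv.isDomain _)
      (fun z _ => have := (hY z.1).2; IsIntegrallyClosed.of_equiv (W.stalkIso z).commRingCatIsoToRingEquiv.symm)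
      (fun b hb z hz h => hb (germ_injective_of_isIntegral W.toScheme z hz (by rw [h, map_zero])))
  let ι := W.topIso.commRingCatIsoToRingEquiv
  haveI : IsDomain Γ(Y, W) := ι.symm.toMulEquiv.isDomain _
  haveI : IsIntegrallyClosed Γ(Y, W) := IsIntegrallyClosed.of_equiv ι
  refine ⟨Γ(Y, W), inferInstance, inferInstance, inferInstance,
    (Y.presheaf.map (homOfLE hWV).op).hom, e, ?_, he1, ?_, ?_, ?_, ?_⟩
  · refine hext _ _ ?_ ?_
    · rw [map_mul, he1, mul_one]
    · rw [map_mul, he0, mul_zero]
  · intro b hb
    refine hext _ _ ?_ ?_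
    · rw [map_mul, map_zero, hb, mul_zero]
    · rw [map_mul, map_zero, he0, zero_mul]
  · intro s
    obtain ⟨b, hb, -⟩ := hglue s 0
    exact ⟨b, hb⟩
  · rw [Y.mem_basicOpen _ η hηV, ← Y.presheaf.germ_res_apply (homOfLE hWV) η hηW e, he1, map_one]
    exact isUnit_one
  · intro η' hη' hne h
    have hη'V : η' ∈ V := Y.basicOpen_le _ h
    have hη'W : η' ∈ W' := ⟨hη'V, fun hh => hsplit η' hη'V η' hη' specializes_rfl (Ne.symm hne)
      (specializes_iff_mem_closure.mpr hh)⟩
    rw [Y.mem_basicOpen _ η' hη'V, ← Y.presheaf.germ_res_apply (homOfLE hW'V) η' hη'W e, he0,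
      map_zero] at h
    have := (hY η').1
    exact not_isUnit_zero h

end Groth.Agent.NormNormal
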